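import Cfsg.Agent.Lib.PermComp.OutP.Fi23S.Data

/-!
# The checks for the elementary abelian subgroups of a Sylow 2-subgroup of the Fischer group Fi23
-/

set_option autoImplicit false
set_option maxRecDepth 100000
set_option maxHeartbeats 0

namespace Cfsg.Agent.Lib.PermComp.OutP.Fi23S

open Cfsg Cfsg.Agent.Lib.PermComp.OutP
open Cfsg.Agent.Lib.PermComp.Core (force app Rep)
open Cfsg.Agent.Lib.PermComp.Kron (rangeAll rangeAll_spec)

local notation "FF" => Cfsg.Agent.Lib.PermComp.OutP.Fi23.F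

/-- The value at a point of one of the transpositions. -/
noncomputable def V (i q : Nat) : Nat := pv FF 44 (idx i) 18 q
/-- The value at a point of one of the elements of the basis. -/
noncomputable def VB (g q : Nat) : Nat := V (ib g) q
/-- The action of the letters on the twenty-three transpositions. -/
noncomputable def acF : Fin 18 → Nat := fun k => Core.nthN cY_T k
/-- The values of the action of an element of the quotient on the basis. -/
noncomputable def Lq (k j : Nat) : Nat := dv (app 5 31 (qc k) (ib j))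

theorem cY_check : Core.checkAll cY_n cY_w cY_mask cY_L cY_maskL cY_idc (List.ofFn acF) cY_prog cY_levels = true := by decide +kernel
theorem cY_order : Core.orderC cY_levels = 128 := by decide +kernel

theorem c1_ck : ∀ k : Fin 18, ∀ i : Fin 23, Core.allL (fun b => Nat.beq (FF (44 + k.val) (V i b)) (V (app 5 31 (acF k) i) (FF (44 + k.val) b))) Fi23.Bs = true := by decide +kernel
theorem c2_ck : ∀ i j : Fin 23, Core.allL (fun b => Nat.beq (V i (V j b)) (V j (V i b))) Fi23.Bs = true := by decide +kernel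
theorem c2s_ck : ∀ i : Fin 23, Core.allL (fun b => Nat.beq (V i (V i b)) b) Fi23.Bs = true := by decide +kernel
theorem c3_ck : ∀ i : Fin 23, Core.allL (fun b => Nat.beq (V i b) (pv VB 0 (dv i) 11 b)) Fi23.Bs = true := by decide +kernel
theorem c4_ck : ∀ k : Fin 18, ∀ j : Fin 23, Core.ifB (Nat.blt (app 5 31 (acF k) j) 23) (Nat.beq (FF (44 + k.val) (OM j)) (OM (app 5 31 (acF k) j))) = true := by decide +kernel
theorem c5_ck : ∀ i j : Fin 23, Nat.beq (V i (OM j)) (OM j) = true := by decide +kernel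
theorem c6_ck : rangeAll (fun c => Nat.beq (Cf (Nat.add (Nat.mul (I0 (pv VB 0 c 11 p0)) 2) (I1 (pv VB 0 c 11 p1)))) c) 0 2048 = true := by decide +kernel
theorem hOM : ∀ j : Fin 23, OM j < 31671 := by decide +kernel
theorem OM_inj : ∀ i j : Fin 23, OM i = OM j → i = j := by decide +kernel

theorem hqv_ck : ∀ i : Fin 128, rangeAll (fun p => Nat.beq (Cfsg.Agent.Lib.PermComp.OutP.wApp (fun g => app 5 31 (acF (Fin.ofNat 18 g))) (wd i) p) (app 5 31 (qc i) p)) 0 23 = true := by
  decide +kernel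
theorem hqm_ck : ∀ i j : Fin 128, rangeAll (fun p => Nat.beq (app 5 31 (qc (mt i j)) p) (app 5 31 (qc i) (app 5 31 (qc j) p))) 0 23 = true := by
  decide +kernel
theorem key_inj : ∀ i j : Fin 128, key i = key j → i = j := by decide +kernel
theorem t_id : mt 0 0 = 0 := by decide +kernel

theorem noExt_ck : noExt2 mt 0 5 0 [] = true := by decide +kernel

theorem B1_ck : ∀ k : Fin 128, mt k k = 0 → k ≠ 0 → Nat.ble (cf (Lq k) (Lq k) 11 0 0 0) 128 = true := by decide +kernel

theorem B2_0 : ∀ k l : Fin 128, k.val % 8 = 0 → k < l → mt k k = 0 → mt l l = 0 → k ≠ 0 → l ≠ 0 → mt k l = mt l k →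
    Nat.ble (cf (Lq k) (Lq l) 11 0 0 0) 64 = true := by decide +kernel
theorem B2_1 : ∀ k l : Fin 128, k.val % 8 = 1 → k < l → mt k k = 0 → mt l l = 0 → k ≠ 0 → l ≠ 0 → mt k l = mt l k →
    Nat.ble (cf (Lq k) (Lq l) 11 0 0 0) 64 = true := by decide +kernel
theorem B2_2 : ∀ k l : Fin 128, k.val % 8 = 2 → k < l → mt k k = 0 → mt l l = 0 → k ≠ 0 → l ≠ 0 → mt k l = mt l k →
    Nat.ble (cf (Lq k) (Lq l) 11 0 0 0) 64 = true := by decide +kernel
theorem B2_3 : ∀ k l : Fin 128, k.val % 8 = 3 → k < l → mt k k = 0 → mt l l = 0 → k ≠ 0 → l ≠ 0 → mt k l = mt l k →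
    Nat.ble (cf (Lq k) (Lq l) 11 0 0 0) 64 = true := by decide +kernel
theorem B2_4 : ∀ k l : Fin 128, k.val % 8 = 4 → k < l → mt k k = 0 → mt l l = 0 → k ≠ 0 → l ≠ 0 → mt k l = mt l k →
    Nat.ble (cf (Lq k) (Lq l) 11 0 0 0) 64 = true := by decide +kernel
theorem B2_5 : ∀ k l : Fin 128, k.val % 8 = 5 → k < l → mt k k = 0 → mt l l = 0 → k ≠ 0 → l ≠ 0 → mt k l = mt l k →
    Nat.ble (cf (Lq k) (Lq l) 11 0 0 0) 64 = true := by decide +kernel
theorem B2_6 : ∀ k l : Fin 128, k.val % 8 = 6 → k < l → mt k k = 0 → mt l l = 0 → k ≠ 0 → l ≠ 0 → mt k l = mt l k →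
    Nat.ble (cf (Lq k) (Lq l) 11 0 0 0) 64 = true := by decide +kernel
theorem B2_7 : ∀ k l : Fin 128, k.val % 8 = 7 → k < l → mt k k = 0 → mt l l = 0 → k ≠ 0 → l ≠ 0 → mt k l = mt l k →
    Nat.ble (cf (Lq k) (Lq l) 11 0 0 0) 64 = true := by decide +kernel

end Cfsg.Agent.Lib.PermComp.OutP.Fi23S
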