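import Cfsg.Agent.Lib.PermComp.OutP.Fi23S.Chk

/-!
# The elementary abelian subgroups of a Sylow 2-subgroup of the Fischer group Fi23

The Sylow 2-subgroup contains a normal subgroup of order `2 ^ 11`, generated by transpositions, and
the quotient has order `128` and acts on the twenty-three transpositions.
-/

set_option autoImplicit false
set_option maxRecDepth 100000
set_option maxHeartbeats 0

namespace Cfsg.Agent.Lib.PermComp.OutP.Fi23S

open Cfsg Cfsg.Agent.Lib.PermComp.OutP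
open Cfsg.Agent.Lib.PermComp.Core (force app Rep)
open Cfsg.Agent.Lib.PermComp.Kron (rangeAll rangeAll_spec)

local notation "FF" => Cfsg.Agent.Lib.PermComp.OutP.Fi23.F

theorem ib_lt (j : Nat) : ib j < 23 := by
  by_cases h : j < 11
  · interval_cases j <;> decide
  · have h1 : ib j = 0 := by
      unfold ib
      rw [List.getD_eq_default]
      have : IBL.length = 11 := rfl
      omega
    rw [h1]
    norm_num

theorem dv_lt (i : Nat) : dv i < 2 ^ 11 := by
  unfold dv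
  exact Nat.mod_lt _ (by norm_num)

section Gens

variable {H : Subgroup (Equiv.Perm (Fin 31671))} {E : Nat → Equiv.Perm (Fin 31671)}

/-- The transpositions. -/
noncomputable def dd (E : Nat → Equiv.Perm (Fin 31671)) (i : Nat) : Equiv.Perm (Fin 31671) :=
  pe (fun j => E (44 + j)) (idx i) 18

/-- The basis. -/
noncomputable def bb (E : Nat → Equiv.Perm (Fin 31671)) (j : Nat) : Equiv.Perm (Fin 31671) := dd E (ib j)

/-- The letters. -/
noncomputable def gg (E : Nat → Equiv.Perm (Fin 31671)) : Fin 18 → Equiv.Perm (Fin 31671) :=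
  fun k => E (44 + k.val)

/-- The points of the transpositions. -/
def omF : Fin 23 → Fin 31671 := fun j => ⟨OM j, hOM j⟩

theorem omF_inj : Function.Injective omF := by
  intro i j h
  exact OM_inj i j (congrArg Fin.val h)

variable (hE : ∀ g < 65, E g ∈ H ∧ Rp (FF g) (E g))
  (hbase : ∀ x ∈ H, ∀ y ∈ H, (∀ b ∈ Fi23.Bs, ∀ (hb : b < 31671), x ⟨b, hb⟩ = y ⟨b, hb⟩) → x = y)

include hE

theorem rp_dd (i : Nat) : Rp (V i) (dd E i) := by
  have h := pv_spec (F := FF) (E := E) (off := 44) (idx i) (k := 18) fun j hj => (hE _ (by omega)).2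
  intro p hp
  exact h p hp

theorem gg_memH (k : Fin 18) : gg E k ∈ H := (hE _ (by have := k.2; omega)).1

theorem rp_gg (k : Fin 18) : Rp (FF (44 + k.val)) (gg E k) := (hE _ (by have := k.2; omega)).2

theorem mem_dd (i : Nat) : dd E i ∈ H :=
  pe_mem_of (fun j hj => (hE _ (by omega)).1) _

theorem rp_pe (c k : Nat) : Rp (pv VB 0 c k) (pe (bb E) c k) := by
  have h := pv_spec (F := VB) (E := bb E) (off := 0) c (k := k) fun j _ => by
    intro p hp
    exact rp_dd hE _ p hp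
  have e : (fun j => bb E (0 + j)) = bb E := by
    funext j
    rw [Nat.zero_add]
  rw [e] at h
  exact h

theorem pe_memH (c k : Nat) : pe (bb E) c k ∈ H :=
  pe_mem_of (fun _ _ => mem_dd hE _) _

theorem Qk_leH : Qk (bb E) 11 ≤ H := by
  apply (Subgroup.closure_le _).2
  rintro _ ⟨j, _, rfl⟩
  exact mem_dd hE _

include hbase

theorem gg_conj (k : Fin 18) (i : Fin 23) :
    gg E k * dd E i = dd E (app 5 31 (acF k) i) * gg E k :=
  eq_of_agree hbase (H.mul_mem (gg_memH hE k) (mem_dd hE i)) (H.mul_mem (mem_dd hE _) (gg_memH hE k))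
    ((rp_gg hE k).mul (rp_dd hE i)) ((rp_dd hE _).mul (rp_gg hE k))
    (fun b hb => Nat.eq_of_beq_eq_true ((Core.allL_eq_true _ _).1 (c1_ck k i) b hb))

theorem dd_comm (i j : Fin 23) : dd E i * dd E j = dd E j * dd E i :=
  eq_of_agree hbase (H.mul_mem (mem_dd hE i) (mem_dd hE j)) (H.mul_mem (mem_dd hE j) (mem_dd hE i))
    ((rp_dd hE i).mul (rp_dd hE j)) ((rp_dd hE j).mul (rp_dd hE i))
    (fun b hb => Nat.eq_of_beq_eq_true ((Core.allL_eq_true _ _).1 (c2_ck i j) b hb))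

theorem dd_sq (i : Fin 23) : dd E i * dd E i = 1 :=
  eq_of_agree hbase (f' := fun b => b) (H.mul_mem (mem_dd hE i) (mem_dd hE i)) H.one_mem
    ((rp_dd hE i).mul (rp_dd hE i)) (fun _ _ => rfl)
    (fun b hb => Nat.eq_of_beq_eq_true ((Core.allL_eq_true _ _).1 (c2s_ck i) b hb))

theorem bb_comm (i j : Nat) : bb E i * bb E j = bb E j * bb E i :=
  dd_comm hE hbase ⟨ib i, ib_lt i⟩ ⟨ib j, ib_lt j⟩

theorem bb_sq (i : Nat) : bb E i * bb E i = 1 :=
  dd_sq hE hbase ⟨ib i, ib_lt i⟩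

theorem dd_eq_pe (i : Fin 23) : dd E i = pe (bb E) (dv i) 11 :=
  eq_of_agree hbase (mem_dd hE i) (pe_memH hE _ _) (rp_dd hE i) (rp_pe hE _ _)
    (fun b hb => Nat.eq_of_beq_eq_true ((Core.allL_eq_true _ _).1 (c3_ck i) b hb))

omit hbase in
theorem pe_inj {c c' : Nat} (hc : c < 2 ^ 11) (hc' : c' < 2 ^ 11)
    (h : pe (bb E) c 11 = pe (bb E) c' 11) : c = c' := by
  have key : ∀ c < 2 ^ 11, Cf (Nat.add (Nat.mul (I0 (pv VB 0 c 11 p0)) 2) (I1 (pv VB 0 c 11 p1))) = c := by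
    intro c hc
    exact Nat.eq_of_beq_eq_true (rangeAll_spec c6_ck c (Nat.zero_le _) (by omega))
  have e : ∀ p < 31671, pv VB 0 c 11 p = pv VB 0 c' 11 p := by
    intro p hp
    rw [rp_pe hE c 11 p hp, rp_pe hE c' 11 p hp, h]
  have h1 := key c hc
  have h2 := key c' hc'
  rw [e p0 (by decide), e p1 (by decide)] at h1
  rw [← h1, h2]

theorem pe_surj : ∀ y ∈ Qk (bb E) 11, ∃ c < 2 ^ 11, y = pe (bb E) c 11 :=
  basis_surj (bb_comm hE hbase) (bb_sq hE hbase) 11

theorem card_Q : Nat.card (Qk (bb E) 11) = 2 ^ 11 :=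
  basis_card (bb_comm hE hbase) (bb_sq hE hbase) 11 fun _ hc _ hc' h => pe_inj hE hc hc' h

theorem ea_Q : IsElementaryAbelian 2 (Qk (bb E) 11) :=
  basis_ea (bb_comm hE hbase) (bb_sq hE hbase) 11

omit hbase in
theorem fix_of_Q {x : Equiv.Perm (Fin 31671)} (hx : x ∈ Qk (bb E) 11) (j : Fin 23) : x (omF j) = omF j := by
  induction hx using Subgroup.closure_induction with
  | mem x hx =>
    obtain ⟨i, _, rfl⟩ := hx
    apply Fin.ext
    have h1 := (rp_dd hE (ib i)) (OM j) (hOM j)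
    exact h1.symm.trans (Nat.eq_of_beq_eq_true (c5_ck ⟨ib i, ib_lt i⟩ j))
  | one => rfl
  | mul x y _ _ h1 h2 =>
    rw [Equiv.Perm.mul_apply, h2, h1]
  | inv x _ h1 =>
    rw [Equiv.Perm.inv_eq_iff_eq, h1]

end Gens

section Quot

variable (a : Fin 18 → Equiv.Perm (Fin 23)) (hra : ∀ i, Rep 5 31 (Equiv.refl (Fin 23)) (acF i) (a i))

/-- The elements of the quotient. -/
noncomputable def qK : Fin 128 → famCl a :=
  fun i => ⟨wordEl a ((wd i).map (Fin.ofNat 18)), wordEl_mem a _⟩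

/-- The action of a permutation of the twenty-three points on numbers. -/
def sg (s : Equiv.Perm (Fin 23)) (i : Nat) : Nat := if h : i < 23 then (s ⟨i, h⟩ : Nat) else 0

/-- The action on the numbers of the elements of the subgroup. -/
noncomputable def MM (y : famCl a) (c : Nat) : Nat := Mk dv (sg y.1) ib c 11

include hra

theorem card_Y : Nat.card (famCl a) = 128 := by
  rw [card_famCl_of_check (e := Equiv.refl (Fin 23)) a acF hra cY_check, cY_order]

theorem hqv (i : Fin 128) (p : Nat) (hp : p < 23) :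
    app 5 31 (qc i) p = ((qK a i : Equiv.Perm (Fin 23)) ⟨p, hp⟩ : Nat) := by
  have h1 := wordEl_rp' a acF hra (wd i) p hp
  rw [← Nat.eq_of_beq_eq_true (rangeAll_spec (hqv_ck i) p (Nat.zero_le _) (by omega))]
  exact h1

theorem qK_inj : Function.Injective (qK a) := by
  intro i j hij
  apply key_inj
  have e : ∀ (p : Nat) (hp : p < 23), app 5 31 (qc i) p = app 5 31 (qc j) p := by
    intro p hp
    rw [hqv a hra i p hp, hqv a hra j p hp, hij]
  unfold key
  rw [e 0 (by norm_num), e 15 (by norm_num)]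

theorem qK_mul (i j : Fin 128) : qK a (mt i j) = qK a i * qK a j := by
  apply Subtype.ext
  ext p
  have h1 := Nat.eq_of_beq_eq_true (rangeAll_spec (hqm_ck i j) p.1 (Nat.zero_le _) (by omega))
  have h2 := hqv a hra (mt i j) p.1 p.2
  have h3 := hqv a hra j p.1 p.2
  have h4 := hqv a hra i _ (((qK a j : Equiv.Perm (Fin 23)) p).2)
  rw [h1, h3, h4] at h2
  exact h2.symm

theorem qK_MT : MT (qK a) mt := by
  refine ⟨?_, qK_mul a hra⟩
  apply Function.Injective.bijective_of_nat_card_le (qK_inj a hra)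
  rw [card_Y a hra, Nat.card_eq_fintype_card, Fintype.card_fin]

theorem MM_q (k : Fin 128) (c : Nat) : MM a (qK a k) c = Mk dv (app 5 31 (qc k)) ib c 11 := by
  apply Mk_congr
  intro j _
  have h := ib_lt j
  unfold sg
  rw [dif_pos h, hqv a hra k _ h]

theorem qK_zero : qK a 0 = 1 := (qK_MT a hra).one t_id

theorem exists_q (y : famCl a) : ∃ k, qK a k = y := (qK_MT a hra).bij.2 y

theorem invol_q {k : Fin 128} (h2 : qK a k * qK a k = 1) : mt k k = 0 := by
  apply qK_inj a hra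
  rw [qK_mul a hra, h2, qK_zero a hra]

theorem hB1 (σ : famCl a) (h1 : σ ≠ 1) (h2 : σ * σ = 1) :
    ((Finset.range (2 ^ 11)).filter (fun c => MM a σ c = c)).card ≤ 128 := by
  obtain ⟨k, rfl⟩ := exists_q a hra σ
  have hk0 : k ≠ 0 := by
    rintro rfl
    exact h1 (qK_zero a hra)
  have hk1 := invol_q a hra h2
  have h3 := Nat.le_of_ble_eq_true (B1_ck k hk1 hk0)
  have e : cf (Lq k) (Lq k) 11 0 0 0 = ((Finset.range (2 ^ 11)).filter (fun c => MM a (qK a k) c = c)).card := by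
    have h4 := cf_spec (dv := dv) (σ := app 5 31 (qc k)) (τ := app 5 31 (qc k)) (ib := ib) 11 0 0 0
    refine h4.trans ?_
    congr 1
    apply Finset.filter_congr
    intro x _
    rw [MM_q a hra]
    simp
  rw [← e]
  exact h3

omit hra in
theorem hB2_lt (k l : Fin 128) (hkl : k < l) (h1 : mt k k = 0) (h2 : mt l l = 0) (h3 : k ≠ 0) (h4 : l ≠ 0)
    (h5 : mt k l = mt l k) : cf (Lq k) (Lq l) 11 0 0 0 ≤ 64 := by
  have h : k.val % 8 = 0 ∨ k.val % 8 = 1 ∨ k.val % 8 = 2 ∨ k.val % 8 = 3 ∨ k.val % 8 = 4 ∨ k.val % 8 = 5 ∨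
      k.val % 8 = 6 ∨ k.val % 8 = 7 := by omega
  apply Nat.le_of_ble_eq_true
  rcases h with h | h | h | h | h | h | h | h
  · exact B2_0 k l h hkl h1 h2 h3 h4 h5
  · exact B2_1 k l h hkl h1 h2 h3 h4 h5
  · exact B2_2 k l h hkl h1 h2 h3 h4 h5
  · exact B2_3 k l h hkl h1 h2 h3 h4 h5
  · exact B2_4 k l h hkl h1 h2 h3 h4 h5
  · exact B2_5 k l h hkl h1 h2 h3 h4 h5
  · exact B2_6 k l h hkl h1 h2 h3 h4 h5
  · exact B2_7 k l h hkl h1 h2 h3 h4 h5

theorem hB2_aux (k l : Fin 128) (hkl : k < l) (h1 : mt k k = 0) (h2 : mt l l = 0) (h3 : k ≠ 0) (h4 : l ≠ 0)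
    (h5 : mt k l = mt l k) :
    ((Finset.range (2 ^ 11)).filter (fun c => MM a (qK a k) c = c ∧ MM a (qK a l) c = c)).card ≤ 64 := by
  have e : cf (Lq k) (Lq l) 11 0 0 0 =
      ((Finset.range (2 ^ 11)).filter (fun c => MM a (qK a k) c = c ∧ MM a (qK a l) c = c)).card := by
    have h6 := cf_spec (dv := dv) (σ := app 5 31 (qc k)) (τ := app 5 31 (qc l)) (ib := ib) 11 0 0 0
    refine h6.trans ?_
    congr 1
    apply Finset.filter_congr
    intro x _
    rw [MM_q a hra, MM_q a hra]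
    simp
  rw [← e]
  exact hB2_lt k l hkl h1 h2 h3 h4 h5

theorem hB2 (σ τ : famCl a) (h1 : σ ≠ 1) (h2 : τ ≠ 1) (h3 : σ ≠ τ) (h4 : σ * σ = 1) (h5 : τ * τ = 1)
    (h6 : σ * τ = τ * σ) :
    ((Finset.range (2 ^ 11)).filter (fun c => MM a σ c = c ∧ MM a τ c = c)).card ≤ 64 := by
  obtain ⟨k, rfl⟩ := exists_q a hra σ
  obtain ⟨l, rfl⟩ := exists_q a hra τ
  have hk0 : k ≠ 0 := by
    rintro rfl
    exact h1 (qK_zero a hra)
  have hl0 : l ≠ 0 := by
    rintro rfl
    exact h2 (qK_zero a hra)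
  have hk1 := invol_q a hra h4
  have hl1 := invol_q a hra h5
  have hc : mt k l = mt l k := by
    apply qK_inj a hra
    rw [qK_mul a hra, qK_mul a hra, h6]
  have hne : k ≠ l := by
    rintro rfl
    exact h3 rfl
  rcases lt_or_gt_of_ne hne with hlt | hlt
  · exact hB2_aux a hra k l hlt hk1 hl1 hk0 hl0 hc
  · have h7 := hB2_aux a hra l k hlt hl1 hk1 hl0 hk0 hc.symm
    have e : (Finset.range (2 ^ 11)).filter (fun c => MM a (qK a k) c = c ∧ MM a (qK a l) c = c) =
        (Finset.range (2 ^ 11)).filter (fun c => MM a (qK a l) c = c ∧ MM a (qK a k) c = c) := by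
      apply Finset.filter_congr
      intro x _
      exact and_comm
    rw [e]
    exact h7

theorem hB3 (X : Subgroup (famCl a)) (hX : IsElementaryAbelian 2 X) : Nat.card X ≤ 16 := by
  have h := (qK_MT a hra).ea_rank2 t_id hX 4 0 [] noExt_ck (by simp) (fun y _ h => by omega)
  simpa using h

end Quot

section Main

theorem exists_a {H : Subgroup (Equiv.Perm (Fin 31671))} {E : Nat → Equiv.Perm (Fin 31671)}
    (hE : ∀ g < 65, E g ∈ H ∧ Rp (FF g) (E g)) :
    ∃ a : Fin 18 → Equiv.Perm (Fin 23), (∀ i, Rep 5 31 (Equiv.refl (Fin 23)) (acF i) (a i)) ∧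
      ∀ i j, gg E i (omF j) = omF (a i j) := by
  have hc4 : ∀ (k : Fin 18) (j : Fin 23), app 5 31 (acF k) j < 23 ∧
      FF (44 + k.val) (OM j) = OM (app 5 31 (acF k) j) := by
    intro k j
    have h := c4_ck k j
    rw [Core.ifB_eq_true] at h
    exact ⟨blt_lt h.1, Nat.eq_of_beq_eq_true h.2⟩
  let f : Fin 18 → Fin 23 → Fin 23 := fun i j => ⟨app 5 31 (acF i) j, (hc4 i j).1⟩
  have hact0 : ∀ i j, gg E i (omF j) = omF (f i j) := by
    intro i j
    apply Fin.ext
    have h1 := (rp_gg hE i) (OM j) (hOM j)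
    exact h1.symm.trans (hc4 i j).2
  have hfinj : ∀ i, Function.Injective (f i) := by
    intro i y z hyz
    apply omF_inj
    apply (gg E i).injective
    rw [hact0, hact0, hyz]
  let a : Fin 18 → Equiv.Perm (Fin 23) := fun i =>
    Equiv.ofBijective (f i) (Finite.injective_iff_bijective.1 (hfinj i))
  exact ⟨a, fun i j => rfl, hact0⟩

/-- The main theorem. -/
theorem main {H : Subgroup (Equiv.Perm (Fin 31671))} (hcard : Nat.card H = 4089470473293004800)
    (hX : ∀ g, 65 ≤ g → g < 75 → Has FF H g) :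
    ∃ T Q : Subgroup (Equiv.Perm (Fin 31671)), T ≤ H ∧ Q ≤ T ∧ (∀ x ∈ T, ∀ y ∈ Q, x * y * x⁻¹ ∈ Q) ∧
      IsElementaryAbelian 2 Q ∧ Nat.card T = 2 ^ 18 ∧ Nat.card Q = 2 ^ 11 ∧
      ∀ A : Subgroup (Equiv.Perm (Fin 31671)), A ≤ T → IsElementaryAbelian 2 A → A ≠ Q →
        Nat.card A < 2 ^ 11 := by
  obtain ⟨⟨A0, hA0, rA⟩, ⟨b0, hb0, rb⟩⟩ := Fi23.has_gens hX
  obtain ⟨E, hO⟩ := Fi23.hC.out hcard hA0 hb0 rA rb
  have hE : ∀ g < 65, E g ∈ H ∧ Rp (FF g) (E g) := hO.hE
  have hbase : ∀ x ∈ H, ∀ y ∈ H, (∀ b ∈ Fi23.Bs, ∀ (hb : b < 31671), x ⟨b, hb⟩ = y ⟨b, hb⟩) → x = y :=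
    hO.hbase
  have hTS : famCl (gg E) = Fi23.SS.Q E := by
    apply le_antisymm
    · apply (Subgroup.closure_le _).2
      rintro _ ⟨k, rfl⟩
      exact Subgroup.subset_closure ⟨k.1, k.2, rfl⟩
    · apply (Subgroup.closure_le _).2
      rintro _ ⟨j, hj, rfl⟩
      exact Subgroup.subset_closure ⟨⟨j, hj⟩, rfl⟩
  have hTc : Nat.card (famCl (gg E)) = 2 ^ 18 := by
    rw [hTS]
    exact pc_card_Q Fi23.hS hE hbase
  have hTH : famCl (gg E) ≤ H := by
    apply (Subgroup.closure_le _).2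
    rintro _ ⟨k, rfl⟩
    exact gg_memH hE k
  have hQT : Qk (bb E) 11 ≤ famCl (gg E) := by
    apply (Subgroup.closure_le _).2
    rintro _ ⟨j, _, rfl⟩
    exact pe_mem_of (b := fun j => E (44 + j)) (K := famCl (gg E)) (k := 18)
      (fun j hj => Subgroup.subset_closure ⟨⟨j, hj⟩, rfl⟩) _
  obtain ⟨a, hra, hact⟩ := exists_a hE
  have hP := card_pair_le (gg E) a omF omF_inj hact
  obtain ⟨ψ, hs, hw⟩ := hom_of_pair2 (gg E) a hP
  have hpair : ∀ y ∈ pairCl (gg E) a, (∀ i : Fin 23, y.1 * dd E i * y.1⁻¹ = dd E (y.2 i)) ∧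
      ∀ j, y.1 (omF j) = omF (y.2 j) := by
    intro y hy
    induction hy using Subgroup.closure_induction with
    | mem y hy =>
      obtain ⟨k, rfl⟩ := hy
      refine ⟨fun i => ?_, fun j => hact k j⟩
      have h1 := gg_conj hE hbase k i
      have h2 : ((a k i : Fin 23) : Nat) = app 5 31 (acF k) i := (hra k i).symm
      change gg E k * dd E i * (gg E k)⁻¹ = dd E (a k i)
      rw [h2, h1, mul_inv_cancel_right]
    | one => exact ⟨fun i => by simp, fun j => rfl⟩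
    | mul y y' _ _ h h' =>
      refine ⟨fun i => ?_, fun j => ?_⟩
      · change y.1 * y'.1 * dd E i * (y.1 * y'.1)⁻¹ = dd E (y.2 (y'.2 i))
        calc y.1 * y'.1 * dd E i * (y.1 * y'.1)⁻¹ = y.1 * (y'.1 * dd E i * y'.1⁻¹) * y.1⁻¹ := by group
          _ = _ := by rw [h'.1 i, h.1]
      · change y.1 (y'.1 (omF j)) = omF (y.2 (y'.2 j))
        rw [h'.2, h.2]
    | inv y _ h =>
      refine ⟨fun i => ?_, fun j => ?_⟩
      · have h1 := h.1 (y.2⁻¹ i)
        have e : y.2 (y.2⁻¹ i) = i := by simp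
        rw [e] at h1
        change y.1⁻¹ * dd E i * y.1⁻¹⁻¹ = dd E (y.2⁻¹ i)
        rw [← h1]
        group
      · have h1 := h.2 (y.2⁻¹ j)
        have e : y.2 (y.2⁻¹ j) = j := by simp
        rw [e] at h1
        change y.1⁻¹ (omF j) = omF (y.2⁻¹ j)
        rw [Equiv.Perm.inv_eq_iff_eq]
        exact h1.symm
  have hM : ∀ (x : famCl (gg E)), ∀ c < 2 ^ 11,
      (x : Equiv.Perm (Fin 31671)) * pe (bb E) c 11 * (x : Equiv.Perm (Fin 31671))⁻¹ =
        pe (bb E) (MM a (ψ x) c) 11 := by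
    intro x c _
    have hp := (hpair _ (hw x)).1
    refine conj_pe (bb_comm hE hbase) (bb_sq hE hbase) (dv := dv) (σ := sg (ψ x).1) (ib := ib) (K := 11)
      (x := (x : Equiv.Perm (Fin 31671))) ?_ c 11 le_rfl
    intro j _
    have h1 := hp ⟨ib j, ib_lt j⟩
    have h2 : sg (ψ x).1 (ib j) = ((ψ x).1 ⟨ib j, ib_lt j⟩ : Nat) := dif_pos (ib_lt j)
    rw [h2, ← dd_eq_pe hE hbase]
    exact h1
  have hker : ∀ x : famCl (gg E), ψ x = 1 ↔ (x : Equiv.Perm (Fin 31671)) ∈ Qk (bb E) 11 := by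
    have h1 : ∀ x : famCl (gg E), (x : Equiv.Perm (Fin 31671)) ∈ Qk (bb E) 11 → ψ x = 1 := by
      intro x hx
      apply Subtype.ext
      apply Equiv.ext
      intro j
      apply omF_inj
      have h2 := (hpair _ (hw x)).2 j
      have h3 := fix_of_Q hE hx j
      exact h2.symm.trans h3
    have hk : Nat.card ψ.ker = 2 ^ 11 := by
      have e : (famCl (gg E) ⧸ ψ.ker) ≃* famCl a := QuotientGroup.quotientKerEquivOfSurjective ψ hs
      have h2 := Subgroup.card_eq_card_quotient_mul_card_subgroup ψ.ker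
      rw [Nat.card_congr e.toEquiv, hTc, card_Y a hra] at h2
      norm_num at h2 ⊢
      omega
    let Q' : Subgroup (famCl (gg E)) := (Qk (bb E) 11).subgroupOf (famCl (gg E))
    have hQ'k : Q' ≤ ψ.ker := fun x hx => h1 x (Subgroup.mem_subgroupOf.1 hx)
    have hQc : Nat.card Q' = 2 ^ 11 := by
      rw [← card_Q hE hbase]
      exact Nat.card_congr (Subgroup.subgroupOfEquivOfLe hQT).toEquiv
    have e2 : Q' = ψ.ker := Subgroup.eq_of_le_of_card_ge hQ'k (by rw [hk, hQc])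
    intro x
    refine ⟨fun h => ?_, h1 x⟩
    have h3 : x ∈ Q' := by
      rw [e2]
      exact h
    exact Subgroup.mem_subgroupOf.1 h3
  refine ⟨famCl (gg E), Qk (bb E) 11, hTH, hQT, ?_, ea_Q hE hbase, hTc, card_Q hE hbase, ?_⟩
  · intro x hx y hy
    obtain ⟨c, hc, rfl⟩ := pe_surj hE hbase y hy
    have h1 := hM ⟨x, hx⟩ c hc
    change x * pe (bb E) c 11 * x⁻¹ = _ at h1
    rw [h1]
    exact pe_mem _ _ _
  · intro A hAT hEA hne
    have h1 := ea_core ψ (bb E) 11 (MM a) hM (fun _ hc _ hc' h => pe_inj hE hc hc' h)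
      (fun _ c _ => Mk_lt dv_lt c 11) (pe_surj hE hbase) hker (hB1 a hra) (hB2 a hra) (hB3 a hra) A hAT hEA
    rcases h1 with h1 | h1
    · by_contra hc
      apply hne
      refine Subgroup.eq_of_le_of_card_ge h1 ?_
      rw [card_Q hE hbase]
      omega
    · have e : max (128 * 2) (64 * 16) = 1024 := by norm_num
      rw [e] at h1
      norm_num
      omega

end Main

end Cfsg.Agent.Lib.PermComp.OutP.Fi23S
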